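import Mathlib.CategoryTheory.FiberedCategory.Fibered
import Mathlib.CategoryTheory.Comma.Over.Basic

/-!
Lifting fibredness through the forgetful functor of a slice.
-/

set_option autoImplicit false
universe v₁ u₁ v₂ u₂

set_option linter.style.haveILetI false

namespace Groth.Agent.FibOver

open CategoryTheory

variable {𝒮 : Type u₁} [Category.{v₁} 𝒮] {C : Type u₂} [Category.{v₂} C] {U : C} (p' : 𝒮 ⥤ Over U)

lemma isStronglyCartesian_of_comp_forget {b a : 𝒮} (φ : b ⟶ a)
    [hφ : (p' ⋙ Over.forget U).IsStronglyCartesian ((p' ⋙ Over.forget U).map φ) φ] :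
    p'.IsStronglyCartesian (p'.map φ) φ where
  universal_property' {a'} g ψ hψ := by
    have hψ' : p'.map ψ = g ≫ p'.map φ := (IsHomLift.eq_of_isHomLift p' _ ψ).symm
    let g' : (p' ⋙ Over.forget U).obj a' ⟶ (p' ⋙ Over.forget U).obj b := g.left
    haveI : (p' ⋙ Over.forget U).IsHomLift (g' ≫ (p' ⋙ Over.forget U).map φ) ψ := by
      have : g' ≫ (p' ⋙ Over.forget U).map φ = (p' ⋙ Over.forget U).map ψ := by
        simp [g', hψ']
      rw [this]; exact IsHomLift.map _ _
    obtain ⟨χ, ⟨hχ, hc⟩, hu⟩ := Functor.IsStronglyCartesian.universal_property'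
      (p := p' ⋙ Over.forget U) (f := (p' ⋙ Over.forget U).map φ) (φ := φ) g' ψ
    have hg : g = p'.map χ := by
      apply Over.OverMorphism.ext
      exact IsHomLift.eq_of_isHomLift (p' ⋙ Over.forget U) g' χ
    refine ⟨χ, ⟨by rw [hg]; infer_instance, hc⟩, fun χ' h' => hu χ' ⟨?_, h'.2⟩⟩
    have := h'.1
    have h2 : g = p'.map χ' := IsHomLift.eq_of_isHomLift p' g χ'
    have h3 : g' = (p' ⋙ Over.forget U).map χ' := by simp [g', h2]
    rw [h3]; exact IsHomLift.map _ _

lemma exists_map_eq {a : 𝒮} {R : Over U} (f : R ⟶ p'.obj a) {b : 𝒮} (φ : b ⟶ a)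
    [(p' ⋙ Over.forget U).IsHomLift f.left φ] : p'.IsHomLift f φ := by
  have hd : (p'.obj b).left = R.left := IsHomLift.domain_eq (p' ⋙ Over.forget U) f.left φ
  have hm : (p'.map φ).left = eqToHom hd ≫ f.left := by
    simpa using IsHomLift.fac' (p' ⋙ Over.forget U) f.left φ
  have he : p'.obj b = R := by
    refine CostructuredArrow.obj_ext _ _ hd ?_
    have := Over.w (p'.map φ)
    rw [hm, Category.assoc, Over.w f] at this
    simpa using this
  subst he
  have : f = p'.map φ := by
    apply Over.OverMorphism.ext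
    simpa using hm.symm
  rw [this]; infer_instance

end Groth.Agent.FibOver
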